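/-
A finite 2-group of order at least 8 with an involution whose centraliser has order at most 4 is
dihedral or quasidihedral; the sign of a semiregular permutation.
-/
import Cfsg.Prelude.Def_CaseTheorems
import Cfsg.Agent.Lib.PGroup.MaximalClass
import Cfsg.Agent.Lib.PGroup.CyclicMaximal
import Mathlib.GroupTheory.Perm.Cycle.Type

set_option autoImplicit false

namespace Cfsg.Agent.Fixity

open Subgroup

theorem dihedral_or_quasiDihedral {X : Type*} [Group X] [Finite X] (hX : IsPGroup 2 X) {u : X}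
    (h8 : 8 ≤ Nat.card X) (hu : orderOf u = 2) (hC : Nat.card (centralizer ({u} : Set X)) ≤ 4) :
    (∃ n : ℕ, Nonempty (X ≃* DihedralGroup n)) ∨ Cfsg.IsQuasiDihedral X := by
  haveI : Fact (Nat.Prime 2) := ⟨Nat.prime_two⟩
  haveI : Nontrivial X := Finite.one_lt_card_iff_nontrivial.1 (by omega)
  haveI := hX.center_nontrivial
  obtain ⟨w, hw⟩ := exists_ne (1 : center X)
  obtain ⟨k, hk⟩ := (hX.to_subgroup (center X)).exists_card_eq
  set A := centralizer ({u} : Set X)
  have huA : u ∈ A := mem_centralizer_singleton_iff.2 rfl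
  have hu_nc : u ∉ center X := fun h => by
    have : A = ⊤ := eq_top_iff.2 fun x _ => mem_centralizer_singleton_iff.2 (mem_center_iff.1 h x)
    rw [this, card_top] at hC
    omega
  have hA4 : Nat.card A = 4 := by
    obtain ⟨j, hj⟩ := (hX.to_subgroup A).exists_card_eq
    have h2 : (2 : ℕ) < Nat.card A := by
      by_contra hlt
      have hle : zpowers u ≤ A := zpowers_le.2 huA
      have heq : zpowers u = A := eq_of_le_of_card_ge hle (by rw [Nat.card_zpowers, hu]; omega)
      have hwA : (w : X) ∈ A := mem_centralizer_singleton_iff.2 (mem_center_iff.1 w.2 u).symm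
      rw [← heq] at hwA
      obtain ⟨i, hi⟩ := hwA
      rcases Int.even_or_odd i with ⟨e, he⟩ | ⟨e, he⟩
      · refine hw (Subtype.ext ?_)
        rw [← hi]
        show u ^ i = 1
        rw [he, ← two_mul, zpow_mul, zpow_ofNat, ← hu, pow_orderOf_eq_one, one_zpow]
      · apply hu_nc
        have h2e : u ^ i = u := by
          rw [he, zpow_add, zpow_mul, zpow_ofNat, ← hu, pow_orderOf_eq_one, one_zpow, one_mul, zpow_one]
        have hi' : u ^ i = (w : X) := hi
        exact h2e ▸ hi'.symm ▸ w.2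
    have hj2 : j ≤ 2 := (Nat.pow_le_pow_iff_right (show 1 < 2 by norm_num)).1 (hj ▸ hC)
    interval_cases j <;> omega
  have hself : centralizer (A : Set X) = A := by
    refine le_antisymm (fun x hx => mem_centralizer_singleton_iff.2 (mem_centralizer_iff.1 hx u huA).symm) ?_
    haveI := PGroup.isMulCommutative_of_card_sq (p := 2) (K := A) (by rw [hA4]; rfl)
    exact fun x hx => mem_centralizer_iff.2 fun y hy =>
      congrArg Subtype.val (IsMulCommutative.is_comm.comm (⟨y, hy⟩ : A) ⟨x, hx⟩)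
  obtain ⟨n, hn⟩ := hX.exists_card_eq
  have hn3 : 3 ≤ n := by
    by_contra hlt
    have := Nat.pow_le_pow_right (show 0 < 2 by norm_num) (show n ≤ 2 by omega)
    omega
  have hmax := PGroup.maximal_class_of_selfCentralizing (p := 2) n X hn A (by rw [hA4]; rfl) hself
  have hlcs := PGroup.card_lcs_of_maximal_class (p := 2) hn3 hn hmax (i := 1) le_rfl (by omega)
  rw [Subgroup.top_lowerCentralSeries_one] at hlcs
  have hab : (_root_.commutator X).index = 4 := by
    have h := (_root_.commutator X).card_mul_index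
    rw [hlcs, hn] at h
    have h' : 2 ^ n = 2 ^ (n - 1 - 1) * 4 := by
      rw [show (4 : ℕ) = 2 ^ 2 from rfl, ← pow_add]; congr 1; omega
    rw [h'] at h
    exact Nat.eq_of_mul_eq_mul_left (by positivity) h
  obtain ⟨a, hai⟩ := PGroup.cyclic_index_two_of_card_ab n X hn3 hn hab
  set m := n - 1 with hm
  have ha : orderOf a = 2 ^ m := by
    have h := (zpowers a).card_mul_index
    rw [Nat.card_zpowers, hai, hn, show n = m + 1 by omega, pow_succ] at h
    omega
  haveI := normal_of_index_eq_two hai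
  have hua : u ∉ zpowers a := fun h => by
    have hle : zpowers a ≤ A := fun x hx => by
      obtain ⟨i, rfl⟩ := hx
      obtain ⟨l, rfl⟩ := h
      exact mem_centralizer_singleton_iff.2 (by
        show a ^ i * a ^ l = a ^ l * a ^ i
        rw [← zpow_add, ← zpow_add, add_comm])
    have hc := card_le_of_le hle
    rw [Nat.card_zpowers, ha, hA4] at hc
    have hm2 : m ≤ 2 := (Nat.pow_le_pow_iff_right (show 1 < 2 by norm_num)).1 hc
    have hm2' : m = 2 := by omega
    have heq : zpowers a = A := eq_of_le_of_card_ge hle (by rw [Nat.card_zpowers, ha, hA4, hm2']; norm_num)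
    -- the involution of a normal cyclic group of order four is central
    have hu2 : u = a ^ 2 := by
      obtain ⟨l, hl⟩ := h
      simp only at hl
      have hlm : a ^ l = a ^ (l % 4) := by
        rw [zpow_eq_zpow_iff_modEq, ha, hm2']
        exact (Int.mod_modEq l 4).symm
      rw [← hl] at hu ⊢
      rw [hlm] at hu ⊢
      have h1 := Int.emod_nonneg l (show (4 : ℤ) ≠ 0 by norm_num)
      have h2 := Int.emod_lt_of_pos l (show (0 : ℤ) < 4 by norm_num)
      interval_cases (l % 4)
      · simp at hu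
      · rw [zpow_one, ha, hm2'] at hu; norm_num at hu
      · exact zpow_ofNat a 2
      · rw [show (3 : ℤ) = ((3 : ℕ) : ℤ) from rfl, zpow_natCast, orderOf_pow' _ (by norm_num), ha, hm2'] at hu
        norm_num at hu
    refine hu_nc (mem_center_iff.2 fun x => ?_)
    have hx : x * a * x⁻¹ ∈ zpowers a := Subgroup.Normal.conj_mem inferInstance a (mem_zpowers a) x
    obtain ⟨l, hl⟩ := hx
    have hodd : Odd l := by
      rcases Int.even_or_odd l with ⟨e, he⟩ | ho
      · exfalso
        have h1 : (x * a * x⁻¹) ^ 2 = 1 := by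
          rw [← hl]
          show (a ^ l) ^ 2 = 1
          rw [← zpow_natCast, ← zpow_mul, show l * ((2 : ℕ) : ℤ) = ((4 : ℕ) : ℤ) * e by push_cast; omega,
            zpow_mul, zpow_natCast, show a ^ 4 = 1 by rw [show (4 : ℕ) = orderOf a by rw [ha, hm2']; rfl]; exact pow_orderOf_eq_one a,
            one_zpow]
        have h2 : a ^ 2 = 1 := by rw [conj_pow] at h1; simpa using h1
        rw [← hu2] at h2
        rw [h2, orderOf_one] at hu
        omega
      · exact ho
    have hconj : x * a ^ 2 * x⁻¹ = a ^ 2 := by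
      rw [← conj_pow, ← hl]
      show (a ^ l) ^ 2 = a ^ 2
      obtain ⟨e, rfl⟩ := hodd
      rw [← zpow_natCast, ← zpow_mul, ← zpow_natCast a 2, zpow_eq_zpow_iff_modEq, ha, hm2', Int.modEq_iff_dvd]
      exact ⟨-e, by push_cast; ring⟩
    rw [hu2]
    exact mul_inv_eq_iff_eq_mul.1 hconj
  have hnc : ¬ Commute u a := fun h => by
    have hle : zpowers a ≤ A := fun x hx => by
      obtain ⟨i, rfl⟩ := hx
      exact mem_centralizer_singleton_iff.2 (h.zpow_right i).eq.symm
    have hc := card_le_of_le hle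
    rw [Nat.card_zpowers, ha, hA4] at hc
    have hm2 : m ≤ 2 := (Nat.pow_le_pow_iff_right (show 1 < 2 by norm_num)).1 hc
    exact hua ((eq_of_le_of_card_ge hle (by rw [Nat.card_zpowers, ha, hA4, show m = 2 by omega]; norm_num)).ge huA)
  obtain ⟨hm2, i, hcases⟩ := PGroup.two_local ha
    (Subgroup.Normal.conj_mem inferInstance a (mem_zpowers a) u)
    (by rw [← hu, pow_orderOf_eq_one]; exact one_mem _) hnc
  have hcong : (u * a ^ i) * a * (u * a ^ i)⁻¹ = u * a * u⁻¹ := by
    rw [mul_inv_rev, mul_assoc u, ((Commute.refl a).zpow_left i).eq]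
    group
  have hu2 : u ^ 2 = 1 := by rw [← hu, pow_orderOf_eq_one]
  rcases hcases with ⟨-, h⟩ | ⟨-, h⟩ | ⟨hm3, -, h⟩ | ⟨hm3, -, h⟩
  · rw [hcong] at h
    obtain ⟨e⟩ := PGroup.dihedralEquivOfGen (N := 2 ^ m) ha hu2 h hua
      (by rw [hn, ← pow_succ']; congr 1; omega)
    exact Or.inl ⟨2 ^ m, ⟨e.symm⟩⟩
  · rw [hcong] at h
    obtain ⟨e⟩ := PGroup.dihedralEquivOfGen (N := 2 ^ m) ha hu2 h hua
      (by rw [hn, ← pow_succ']; congr 1; omega)
    exact Or.inl ⟨2 ^ m, ⟨e.symm⟩⟩
  · exfalso
    rw [hcong] at h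
    have h2 : u * a ^ 2 * u⁻¹ = a ^ 2 := by
      rw [← conj_pow, h, ← pow_mul, pow_eq_pow_iff_modEq, ha, add_mul, one_mul, ← pow_succ,
        show m - 1 + 1 = m by omega]
      exact (Nat.modEq_iff_dvd' (by omega)).2 ⟨1, by omega⟩ |>.symm
    have hcomm : u * a ^ 2 = a ^ 2 * u := mul_inv_eq_iff_eq_mul.1 h2
    have hle : zpowers (a ^ 2) ≤ A := zpowers_le.2 (mem_centralizer_singleton_iff.2 hcomm.symm)
    have ho : orderOf (a ^ 2) = 2 ^ (m - 1) := by
      rw [orderOf_pow' _ two_ne_zero, ha, show m = m - 1 + 1 by omega, pow_succ, Nat.gcd_mul_left_left,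
        Nat.mul_div_cancel _ (by norm_num), Nat.add_sub_cancel]
    have hge : Nat.card A ≤ Nat.card (zpowers (a ^ 2)) := by
      rw [Nat.card_zpowers, ho, hA4]
      calc 4 = 2 ^ 2 := rfl
        _ ≤ _ := Nat.pow_le_pow_right (by norm_num) (by omega)
    have hmem : u ∈ zpowers (a ^ 2) := (eq_of_le_of_card_ge hle hge).ge huA
    exact hua (zpowers_le.2 (pow_mem (mem_zpowers a) 2) hmem)
  · rw [hcong] at h
    exact Or.inr ⟨m, hm3, by rw [hn]; congr 1; omega, a, u, ha, hu, h⟩

theorem sign_of_semiregular {α : Type*} [Fintype α] [DecidableEq α] (σ : Equiv.Perm α) {o : ℕ}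
    (ho : σ ^ o = 1) (hfree : ∀ x, σ x ≠ x → ∀ i < o, 0 < i → (σ ^ i) x ≠ x)
    (hdvd : 2 * o ∣ σ.support.card) : Equiv.Perm.sign σ = 1 := by
  have hall : ∀ n ∈ σ.cycleType, n = o := by
    intro n hn
    have hle : n ∣ o := (Equiv.Perm.dvd_of_mem_cycleType hn).trans (orderOf_dvd_of_pow_eq_one ho)
    have h2 := Equiv.Perm.two_le_of_mem_cycleType hn
    obtain ⟨c, τ, rfl, hd, hc, rfl⟩ := Equiv.Perm.mem_cycleType_iff.1 hn
    obtain ⟨x, hx⟩ := hc.nonempty_support
    have hτ : τ x = x := (hd x).resolve_left (Equiv.Perm.mem_support.1 hx)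
    have hfix : ((c * τ) ^ c.support.card) x = x := by
      rw [hd.commute.mul_pow, Equiv.Perm.mul_apply, Equiv.Perm.pow_apply_eq_self_of_apply_eq_self hτ,
        ← hc.orderOf, pow_orderOf_eq_one, Equiv.Perm.one_apply]
    have hmove : (c * τ) x ≠ x := by
      rw [Equiv.Perm.mul_apply, hτ]; exact Equiv.Perm.mem_support.1 hx
    by_contra hne
    have hpos : 0 < o := by
      rcases Nat.eq_zero_or_pos o with h0 | h0
      · subst h0
        obtain ⟨s, hs⟩ := hdvd
        rw [Nat.mul_zero, Nat.zero_mul, Finset.card_eq_zero] at hs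
        exact absurd (Equiv.Perm.mem_support.2 hmove) (by rw [hs]; exact Finset.notMem_empty x)
      · exact h0
    exact hfree x hmove _ (lt_of_le_of_ne (Nat.le_of_dvd hpos hle) hne) (by omega) hfix
  have hrep : σ.cycleType = Multiset.replicate (Multiset.card σ.cycleType) o :=
    Multiset.eq_replicate_card.2 hall
  obtain ⟨s, hs⟩ := hdvd
  rw [← Equiv.Perm.sum_cycleType, hrep, Multiset.sum_replicate, smul_eq_mul] at hs
  rw [Equiv.Perm.sign_of_cycleType, hrep, Multiset.sum_replicate, Multiset.card_replicate, smul_eq_mul]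
  rcases Nat.eq_zero_or_pos o with h0 | h0
  · have hcard : Multiset.card σ.cycleType = 0 := by
      by_contra hne
      obtain ⟨n, hn⟩ := Multiset.card_pos_iff_exists_mem.1 (Nat.pos_of_ne_zero hne)
      have := Equiv.Perm.two_le_of_mem_cycleType hn
      rw [hall n hn, h0] at this
      omega
    rw [hcard]
    simp
  · have hc : Multiset.card σ.cycleType = 2 * s := Nat.eq_of_mul_eq_mul_right h0 (by rw [hs]; ring)
    rw [hc]
    exact Even.neg_one_pow ((Even.mul_right (even_two_mul s) o).add (even_two_mul s))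

end Cfsg.Agent.Fixity
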