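/-
A 2-group with at most two fixed points for each non-identity element, acting with a non-trivial
proper point stabiliser.
-/
import Cfsg.Agent.Lib.Fixity.TwoGroup

set_option autoImplicit false

namespace Cfsg.Agent.Fixity

open Subgroup MulAction

variable {P : Type*} [Group P] [Finite P] {Ω : Type*} [MulAction P Ω] [Finite Ω]

/-- Fixity two: no non-identity element fixes three points. -/
def NoThree (P : Type*) [Group P] (Ω : Type*) [MulAction P Ω] : Prop :=
  ∀ g : P, g ≠ 1 → ∀ a b c : Ω, g • a = a → g • b = b → g • c = c → a = b ∨ a = c ∨ b = c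

theorem two_group_cases (hP : IsPGroup 2 P) (hno : NoThree P Ω) (α : Ω)
    (hT1 : stabilizer P α ≠ ⊥) (hT2 : stabilizer P α ≠ ⊤) :
    (((∃ n : ℕ, Nonempty (P ≃* DihedralGroup n)) ∨ Cfsg.IsQuasiDihedral P) ∧
      (Nat.card (stabilizer P α) = 2 ∨ (stabilizer P α).index = 2)) ∨
    ((stabilizer P α).index = 2 ∧ ∀ γ : Ω, γ ∉ orbit P α → stabilizer P γ = ⊥) := by
  haveI : Fact (Nat.Prime 2) := ⟨Nat.prime_two⟩
  haveI := hP.isNilpotent
  set T := stabilizer P α
  set M := normalizer (T : Set P)
  have hTM : T < M := (Group.normalizerCondition_of_isNilpotent (G := P)) T (lt_top_iff_ne_top.2 hT2)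
  obtain ⟨m0, hm0M, hm0T⟩ := SetLike.exists_of_lt hTM
  set β := m0 • α with hβ
  have hβα : β ≠ α := fun h => hm0T (mem_stabilizer_iff.2 h)
  obtain ⟨t, ht, ht1⟩ := (bot_or_exists_ne_one T).resolve_left hT1
  have hfixM : ∀ m ∈ M, ∀ g ∈ T, g • (m • α) = m • α := by
    intro m hm g hg
    have h := (mem_normalizer_iff.1 (inv_mem hm) g).1 hg
    rw [inv_inv] at h
    have h' : (m⁻¹ * g * m) • α = α := h
    calc g • m • α = m • ((m⁻¹ * g * m) • α) := by rw [smul_smul, smul_smul]; congr 1; group
      _ = m • α := by rw [h']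
  have hMorb : ∀ m ∈ M, m ∉ T → m • α = β := by
    intro m hm hmT
    have h := hno t ht1 α β (m • α) ht (hfixM m0 hm0M t ht) (hfixM m hm t ht)
    rcases h with h | h | h
    · exact absurd h.symm hβα
    · exact absurd (mem_stabilizer_iff.2 h.symm) hmT
    · exact h.symm
  have hMT : ∀ m ∈ M, m ∉ T → m0⁻¹ * m ∈ T := fun m hm hmT => by
    rw [mem_stabilizer_iff, mul_smul, hMorb m hm hmT, hβ, inv_smul_smul]
  have hMcard : Nat.card M ≤ 2 * Nat.card T := by
    have hinj : Nat.card M ≤ Nat.card (Bool × T) := by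
      classical
      refine Nat.card_le_card_of_injective (fun m : M => if h : (m : P) ∈ T then (true, ⟨(m : P), h⟩)
        else (false, ⟨m0⁻¹ * (m : P), hMT m m.2 h⟩)) fun x y hxy => ?_
      by_cases hx : (x : P) ∈ T <;> by_cases hy : (y : P) ∈ T <;> simp [hx, hy] at hxy
      · exact hxy
      · exact hxy
    simpa [Nat.card_prod] using hinj
  -- `T` has index two unless it has order two
  by_cases hMtop : M = ⊤
  swap
  · -- `M` is proper: `T` has order two and the group is dihedral or quasidihedral
    have hMn : M < normalizer (M : Set P) :=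
      (Group.normalizerCondition_of_isNilpotent (G := P)) M (lt_top_iff_ne_top.2 hMtop)
    obtain ⟨s, hsN, hsM⟩ := SetLike.exists_of_lt hMn
    have hT2' : Nat.card T = 2 := by
      have hsub : ∀ w ∈ T, ∀ w' ∈ T, w ≠ 1 → w' ≠ 1 → w = w' := by
        intro w hw w' hw' hw1 hw'1
        by_contra hne
        -- some non-identity element of `T` stays in `T` under conjugation by `s`
        obtain ⟨x, hxT, hx1, hxs⟩ : ∃ x ∈ T, x ≠ 1 ∧ s⁻¹ * x * s ∈ T := by
          by_cases h1 : s⁻¹ * w * s ∈ T
          · exact ⟨w, hw, hw1, h1⟩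
          by_cases h2 : s⁻¹ * w' * s ∈ T
          · exact ⟨w', hw', hw'1, h2⟩
          refine ⟨w⁻¹ * w', T.mul_mem (inv_mem hw) hw', fun h => hne (inv_mul_eq_one.1 h), ?_⟩
          have hm : ∀ u ∈ T, s⁻¹ * u * s ∈ M := fun u hu => by
            have h := (mem_normalizer_iff.1 (inv_mem hsN) u).1 (hTM.le hu)
            rwa [inv_inv] at h
          have e1 := hMT _ (hm w hw) h1
          have e2 := hMT _ (hm w' hw') h2
          have e := T.mul_mem (inv_mem e1) e2
          rwa [show (m0⁻¹ * (s⁻¹ * w * s))⁻¹ * (m0⁻¹ * (s⁻¹ * w' * s)) = s⁻¹ * (w⁻¹ * w') * s by group] at e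
        have hxα : x • (s • α) = s • α := by
          have h : (s⁻¹ * x * s) • α = α := hxs
          calc x • s • α = s • ((s⁻¹ * x * s) • α) := by rw [smul_smul, smul_smul]; congr 1; group
            _ = s • α := by rw [h]
        rcases hno x hx1 α β (s • α) hxT (hfixM m0 hm0M x hxT) hxα with h | h | h
        · exact hβα h.symm
        · exact hsM (hTM.le (mem_stabilizer_iff.2 h.symm))
        · refine hsM ?_
          have h' : m0⁻¹ * s ∈ T := by rw [mem_stabilizer_iff, mul_smul, ← h, hβ, inv_smul_smul]
          have := M.mul_mem hm0M (hTM.le h')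
          rwa [mul_inv_cancel_left] at this
      refine le_antisymm ?_ ((one_lt_card_iff_ne_bot T).2 hT1)
      rw [← Fintype.card_bool, ← Nat.card_eq_fintype_card]
      classical
      refine Nat.card_le_card_of_injective (fun w : T => decide (w = 1)) fun x y hxy => ?_
      by_cases hx : x = 1 <;> by_cases hy : y = 1 <;> simp [hx, hy] at hxy ⊢
      exact Subtype.ext (hsub x x.2 y y.2 (fun h => hx (Subtype.ext h)) (fun h => hy (Subtype.ext h)))
    have hto : orderOf t = 2 := orderOf_eq_prime (by
      have h := pow_card_eq_one' (x := (⟨t, ht⟩ : T))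
      rw [hT2'] at h
      exact congrArg Subtype.val h) ht1
    have h8 : 8 ≤ Nat.card P := by
      obtain ⟨n, hn⟩ := hP.exists_card_eq
      obtain ⟨k, hk⟩ := (hP.to_subgroup M).exists_card_eq
      have h1 : Nat.card T < Nat.card M := Set.Finite.card_lt_card (Set.toFinite _) hTM
      have h2 : Nat.card M < Nat.card P := by
        refine lt_of_le_of_ne (card_le_card_group M) fun h => hMtop ((card_eq_iff_eq_top M).1 h)
      rw [hn, hk] at h2
      rw [hT2', hk] at h1
      have hk2 : 2 ≤ k := (Nat.pow_lt_pow_iff_right (show 1 < 2 by norm_num)).1 (by simpa using h1)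
      have := (Nat.pow_lt_pow_iff_right (show 1 < 2 by norm_num)).1 h2
      rw [hn]
      calc 8 = 2 ^ 3 := rfl
        _ ≤ _ := Nat.pow_le_pow_right (by norm_num) (by omega)
    have hC : Nat.card (centralizer ({t} : Set P)) ≤ 4 := by
      have hle : centralizer ({t} : Set P) ≤ M := by
        intro x hx
        rw [mem_centralizer_singleton_iff] at hx
        rw [mem_normalizer_iff]
        have hT : ∀ g, g ∈ T ↔ g = 1 ∨ g = t := fun g => by
          refine ⟨fun hg => ?_, fun h => h.elim (fun h => h ▸ one_mem T) fun h => h ▸ ht⟩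
          haveI : Fintype T := Fintype.ofFinite T
          have h2 := Nat.card_eq_two_iff' (⟨1, one_mem T⟩ : T) |>.1 hT2'
          by_cases hg1 : g = 1
          · exact Or.inl hg1
          · exact Or.inr (congrArg Subtype.val (h2.unique (y₁ := ⟨g, hg⟩) (y₂ := ⟨t, ht⟩)
              (fun h => hg1 (congrArg Subtype.val h)) (fun h => ht1 (congrArg Subtype.val h))))
        intro g
        rw [hT, hT]
        constructor
        · rintro (rfl | rfl)
          · exact Or.inl (by group)
          · exact Or.inr (by rw [hx, mul_inv_cancel_right])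
        · rintro (h | h)
          · exact Or.inl (by simpa using h)
          · refine Or.inr ?_
            rw [mul_inv_eq_iff_eq_mul, ← hx] at h
            exact mul_left_cancel h
      have := card_le_of_le hle
      omega
    exact Or.inl ⟨dihedral_or_quasiDihedral hP h8 hto hC, Or.inl hT2'⟩
  -- `T` is normal of index two
  have hidx : T.index = 2 := by
    have h := T.card_mul_index
    have hle : Nat.card P ≤ 2 * Nat.card T := by rwa [hMtop, card_top] at hMcard
    have h1 : 1 < T.index := by
      have := one_lt_index_of_ne_top hT2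
      exact this
    have h2 : Nat.card T * T.index ≤ Nat.card T * 2 := by rw [h]; linarith
    have := Nat.le_of_mul_le_mul_left h2 Nat.card_pos
    omega
  have hdec : ∀ g : P, g ∉ T → g • α = β := fun g hg => hMorb g (hMtop ▸ mem_top g) hg
  by_cases hreg : ∀ γ : Ω, γ ∉ orbit P α → stabilizer P γ = ⊥
  · exact Or.inr ⟨hidx, hreg⟩
  push Not at hreg
  obtain ⟨γ, hγ, hU⟩ := hreg
  set U := stabilizer P γ
  have hγα : γ ≠ α := fun h => hγ (by rw [h]; exact mem_orbit_self α)
  have hγβ : γ ≠ β := fun h => hγ (by rw [h]; exact mem_orbit α m0)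
  have hUT : ∀ g ∈ U, g ∈ T → g = 1 := by
    intro g hgU hgT
    by_contra hg1
    rcases hno g hg1 α β γ hgT (hfixM m0 hm0M g hgT) hgU with h | h | h
    · exact hβα h.symm
    · exact hγα h.symm
    · exact hγβ h.symm
  obtain ⟨u, hu, hu1⟩ := (bot_or_exists_ne_one U).resolve_left hU
  have huniq : ∀ g ∈ U, g ≠ 1 → g = u := by
    intro g hg hg1
    refine inv_mul_eq_one.1 (hUT _ (U.mul_mem (inv_mem hg) hu) ?_)
    exact (mul_mem_iff_of_index_two hidx).2 (iff_of_false (fun h => hg1 (hUT g hg (inv_mem_iff.1 h)))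
      fun h => hu1 (hUT u hu h))
  have huu : u * u = 1 := by
    by_contra h
    exact hu1 (mul_eq_left.1 (huniq _ (U.mul_mem hu hu) h))
  have hou : orderOf u = 2 := orderOf_eq_prime (by rw [pow_two, huu]) hu1
  have hCU : Nat.card (centralizer ({u} : Set P)) ≤ 4 := by
    let f : centralizer ({u} : Set P) → {x : Ω // u • x = x} := fun c => ⟨(c : P) • γ, by
      rw [smul_smul, ← mem_centralizer_singleton_iff.1 c.2, mul_smul, hu]⟩
    have hfix2 : Nat.card {x : Ω // u • x = x} ≤ 2 := by
      by_contra hlt
      push Not at hlt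
      haveI : Fintype {x : Ω // u • x = x} := Fintype.ofFinite _
      rw [Nat.card_eq_fintype_card] at hlt
      obtain ⟨a, b, c, hab, hac, hbc⟩ := Fintype.two_lt_card_iff.1 hlt
      rcases hno u hu1 _ _ _ a.2 b.2 c.2 with h | h | h
      · exact hab (Subtype.ext h)
      · exact hac (Subtype.ext h)
      · exact hbc (Subtype.ext h)
    classical
    have hinj : Nat.card (centralizer ({u} : Set P)) ≤ Nat.card ({x : Ω // u • x = x} × Bool) := by
      let r : ∀ y : {x : Ω // u • x = x}, centralizer ({u} : Set P) := fun y =>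
        if h : ∃ c, f c = y then h.choose else 1
      refine Nat.card_le_card_of_injective (fun c => (f c, decide ((c : P) = (r (f c) : P)))) fun x y hxy => ?_
      simp only [Prod.mk.injEq] at hxy
      obtain ⟨hf, hd⟩ := hxy
      rw [hf] at hd
      have hr : f (r (f y)) = f y := by
        simp only [r, dif_pos (show ∃ c, f c = f y from ⟨y, rfl⟩)]
        exact (show ∃ c, f c = f y from ⟨y, rfl⟩).choose_spec
      have hmem : ∀ z : centralizer ({u} : Set P), f z = f y → ((r (f y) : P))⁻¹ * z ∈ U := fun z hz => by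
        have h : (z : P) • γ = (r (f y) : P) • γ := congrArg Subtype.val (hz.trans hr.symm)
        rw [mem_stabilizer_iff, mul_smul, h, inv_smul_smul]
      have key : ∀ z : centralizer ({u} : Set P), f z = f y → (z : P) ≠ (r (f y) : P) →
          (z : P) = (r (f y) : P) * u := fun z hz hne => by
        exact inv_mul_eq_iff_eq_mul.1 (huniq _ (hmem z hz) (fun h => hne (inv_mul_eq_one.1 h).symm))
      refine Subtype.ext ?_
      by_cases hx : (x : P) = (r (f y) : P)
      · have hy : (y : P) = (r (f y) : P) := by simpa [hx] using hd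
        rw [hx]; exact hy.symm
      · have hy : (y : P) ≠ (r (f y) : P) := by simpa [hx] using hd
        rw [key x hf hx, key y rfl hy]
    rw [Nat.card_prod, show Nat.card Bool = 2 by simp] at hinj
    calc Nat.card (centralizer ({u} : Set P)) ≤ _ := hinj
      _ ≤ 2 * 2 := Nat.mul_le_mul_right 2 hfix2
  refine Or.inl ⟨?_, Or.inr hidx⟩
  obtain ⟨n, hn⟩ := hP.exists_card_eq
  have hTc := T.card_mul_index
  rw [hidx, hn] at hTc
  have hT2' : 1 < Nat.card T := (one_lt_card_iff_ne_bot T).2 hT1
  rcases Nat.lt_or_ge (Nat.card P) 8 with h8 | h8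
  · have h4 : Nat.card P = 4 := by
      rw [hn] at h8 ⊢
      have : n < 3 := (Nat.pow_lt_pow_iff_right (show 1 < 2 by norm_num)).1 (by simpa using h8)
      interval_cases n <;> omega
    haveI := IsPGroup.isMulCommutative_of_card_eq_prime_sq (p := 2) (G := P) (by rw [h4]; rfl)
    have hto : orderOf t = 2 := by
      have hT2'' : Nat.card T = 2 := by rw [h4] at hn; omega
      refine orderOf_eq_prime ?_ ht1
      have h := pow_card_eq_one' (x := (⟨t, ht⟩ : T))
      rw [hT2''] at h
      exact congrArg Subtype.val h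
    have hcomm : u * t = t * u := IsMulCommutative.is_comm.comm u t
    refine Or.inl ⟨2, ?_⟩
    obtain ⟨e⟩ := PGroup.dihedralEquivOfGen (N := 2) (a := t) (b := u) hto (by rw [pow_two, huu])
      (by rw [hcomm, mul_inv_cancel_right]; exact (inv_eq_of_mul_eq_one_right (by rw [← pow_two, ← hto, pow_orderOf_eq_one])).symm)
      (fun h => hu1 (hUT u hu (zpowers_le.2 ht h))) (by rw [h4])
    exact ⟨e.symm⟩
  · exact dihedral_or_quasiDihedral hP h8 hou hCU

end Cfsg.Agent.Fixity
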